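import Cfsg.Agent.LU.X1
import Cfsg.Agent.LU.B1

/-! The reflection case. -/

set_option autoImplicit false
set_option linter.unusedSimpArgs false
set_option linter.unusedSectionVars false
set_option linter.unusedVariables false

namespace Cfsg.Agent.L.X11U

open Matrix Cfsg.Agent.H5.C11U

def EZ : Fin 5 → MZ := ![!![⟨0,0⟩, ⟨0,0⟩, ⟨0,0⟩, ⟨0,0⟩, ⟨0,0⟩; ⟨0,0⟩, ⟨0,0⟩, ⟨0,0⟩, ⟨0,0⟩, ⟨0,0⟩; ⟨0,0⟩, ⟨0,0⟩, ⟨0,0⟩, ⟨0,0⟩, ⟨0,0⟩; ⟨0,0⟩, ⟨0,0⟩, ⟨0,0⟩, ⟨16,0⟩, ⟨0,0⟩; ⟨0,0⟩, ⟨0,0⟩, ⟨0,0⟩, ⟨0,0⟩, ⟨16,0⟩],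
  !![⟨8,0⟩, ⟨-4,0⟩, ⟨-4,0⟩, ⟨3,1⟩, ⟨-1,-1⟩; ⟨-4,0⟩, ⟨8,0⟩, ⟨-4,0⟩, ⟨-2,0⟩, ⟨3,1⟩; ⟨-4,0⟩, ⟨-4,0⟩, ⟨8,0⟩, ⟨-1,-1⟩, ⟨-2,0⟩; ⟨2,-2⟩, ⟨4,0⟩, ⟨-6,2⟩, ⟨4,0⟩, ⟨0,0⟩; ⟨-4,0⟩, ⟨6,-2⟩, ⟨-2,2⟩, ⟨0,0⟩, ⟨4,0⟩],
  !![⟨8,0⟩, ⟨4,0⟩, ⟨4,0⟩, ⟨3,1⟩, ⟨-1,-1⟩; ⟨4,0⟩, ⟨8,0⟩, ⟨-4,0⟩, ⟨2,0⟩, ⟨-3,-1⟩; ⟨4,0⟩, ⟨-4,0⟩, ⟨8,0⟩, ⟨1,1⟩, ⟨2,0⟩; ⟨2,-2⟩, ⟨-4,0⟩, ⟨6,-2⟩, ⟨4,0⟩, ⟨0,0⟩; ⟨-4,0⟩, ⟨-6,2⟩, ⟨2,-2⟩, ⟨0,0⟩, ⟨4,0⟩],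
  !![⟨8,0⟩, ⟨-4,0⟩, ⟨4,0⟩, ⟨-3,-1⟩, ⟨1,1⟩; ⟨-4,0⟩, ⟨8,0⟩, ⟨4,0⟩, ⟨2,0⟩, ⟨-3,-1⟩; ⟨4,0⟩, ⟨4,0⟩, ⟨8,0⟩, ⟨-1,-1⟩, ⟨-2,0⟩; ⟨-2,2⟩, ⟨-4,0⟩, ⟨-6,2⟩, ⟨4,0⟩, ⟨0,0⟩; ⟨4,0⟩, ⟨-6,2⟩, ⟨-2,2⟩, ⟨0,0⟩, ⟨4,0⟩],
  !![⟨8,0⟩, ⟨4,0⟩, ⟨-4,0⟩, ⟨-3,-1⟩, ⟨1,1⟩; ⟨4,0⟩, ⟨8,0⟩, ⟨4,0⟩, ⟨-2,0⟩, ⟨3,1⟩; ⟨-4,0⟩, ⟨4,0⟩, ⟨8,0⟩, ⟨1,1⟩, ⟨2,0⟩; ⟨-2,2⟩, ⟨4,0⟩, ⟨6,-2⟩, ⟨4,0⟩, ⟨0,0⟩; ⟨4,0⟩, ⟨6,-2⟩, ⟨2,-2⟩, ⟨0,0⟩, ⟨4,0⟩]]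

def JJ : Fin 5 → MZ := ![!![⟨0,0⟩, ⟨0,0⟩, ⟨0,0⟩, ⟨0,0⟩, ⟨0,0⟩; ⟨0,0⟩, ⟨0,0⟩, ⟨0,0⟩, ⟨0,0⟩, ⟨0,0⟩; ⟨0,0⟩, ⟨0,0⟩, ⟨0,0⟩, ⟨0,0⟩, ⟨0,0⟩; ⟨0,0⟩, ⟨0,0⟩, ⟨0,0⟩, ⟨16,0⟩, ⟨-32,0⟩; ⟨0,0⟩, ⟨0,0⟩, ⟨0,0⟩, ⟨32,0⟩, ⟨-16,0⟩],
  !![⟨0,0⟩, ⟨12,0⟩, ⟨-12,0⟩, ⟨-1,1⟩, ⟨5,1⟩; ⟨-12,0⟩, ⟨0,0⟩, ⟨12,0⟩, ⟨-4,-2⟩, ⟨-1,1⟩; ⟨12,0⟩, ⟨-12,0⟩, ⟨0,0⟩, ⟨5,1⟩, ⟨-4,-2⟩; ⟨-10,2⟩, ⟨8,-4⟩, ⟨2,2⟩, ⟨-4,0⟩, ⟨8,0⟩; ⟨-8,4⟩, ⟨-2,-2⟩, ⟨10,-2⟩, ⟨-8,0⟩, ⟨4,0⟩],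
  !![⟨0,0⟩, ⟨-12,0⟩, ⟨12,0⟩, ⟨-1,1⟩, ⟨5,1⟩; ⟨12,0⟩, ⟨0,0⟩, ⟨12,0⟩, ⟨4,2⟩, ⟨1,-1⟩; ⟨-12,0⟩, ⟨-12,0⟩, ⟨0,0⟩, ⟨-5,-1⟩, ⟨4,2⟩; ⟨-10,2⟩, ⟨-8,4⟩, ⟨-2,-2⟩, ⟨-4,0⟩, ⟨8,0⟩; ⟨-8,4⟩, ⟨2,2⟩, ⟨-10,2⟩, ⟨-8,0⟩, ⟨4,0⟩],
  !![⟨0,0⟩, ⟨12,0⟩, ⟨12,0⟩, ⟨1,-1⟩, ⟨-5,-1⟩; ⟨-12,0⟩, ⟨0,0⟩, ⟨-12,0⟩, ⟨4,2⟩, ⟨1,-1⟩; ⟨-12,0⟩, ⟨12,0⟩, ⟨0,0⟩, ⟨5,1⟩, ⟨-4,-2⟩; ⟨10,-2⟩, ⟨-8,4⟩, ⟨2,2⟩, ⟨-4,0⟩, ⟨8,0⟩; ⟨8,-4⟩, ⟨2,2⟩, ⟨10,-2⟩, ⟨-8,0⟩, ⟨4,0⟩],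
  !![⟨0,0⟩, ⟨-12,0⟩, ⟨-12,0⟩, ⟨1,-1⟩, ⟨-5,-1⟩; ⟨12,0⟩, ⟨0,0⟩, ⟨-12,0⟩, ⟨-4,-2⟩, ⟨-1,1⟩; ⟨12,0⟩, ⟨12,0⟩, ⟨0,0⟩, ⟨-5,-1⟩, ⟨4,2⟩; ⟨10,-2⟩, ⟨8,-4⟩, ⟨-2,-2⟩, ⟨-4,0⟩, ⟨8,0⟩; ⟨8,-4⟩, ⟨-2,-2⟩, ⟨-10,2⟩, ⟨-8,0⟩, ⟨4,0⟩]]

theorem EJ_g : ∀ k, g8 * EZ (k + 4) = EZ k * g8 ∧ g8 * JJ (k + 4) = JJ k * g8 := by decide +kernel

theorem EJ_f : ∀ k, fZ * EZ (![0, 2, 1, 4, 3] k) = EZ k * fZ ∧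
    fZ * JJ (![0, 2, 1, 4, 3] k) = JJ k * fZ := by decide +kernel

theorem EJ_z : ∀ k, z2Z * EZ (![0, 4, 3, 2, 1] k) = EZ k * z2Z ∧
    z2Z * JJ (![0, 4, 3, 2, 1] k) = JJ k * z2Z := by decide +kernel

theorem EJ_o : ∀ i j, i ≠ j → JJ i * JJ j = EZ i * EZ j + EZ i * EZ j + EZ i * EZ j ∧
    EZ i * JJ j = -(JJ i * EZ j) := by decide +kernel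

theorem EJ_s : EZ 0 + EZ 1 + EZ 2 + EZ 3 + EZ 4 = (2 : ZG) ^ 5 • 1 ∧
    JJ 0 + JJ 1 + JJ 2 + JJ 3 + JJ 4 = 0 ∧ EZ 0 = (2 : ZG) ^ 4 • E0Z ∧ JJ 0 = (2 : ZG) ^ 4 • JZ := by
  decide +kernel

variable {F : Type*} [Field F] {g : F} {C : Type*} [Group C] {p : ℕ} {ω : F} {π : C →* GL (Fin 5) F}
  {ψ : C →* GL (Fin 6) F} {σ u f : C}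

theorem XS.beta (h : XS p ω g π ψ σ u f) {ρ : C} (hY : InY u f ρ) (ρ2 : ρ * ρ = 1 ∨ ρ * ρ = σ)
    {s κ : F} (hs : s * s = 1) (hκ : 3 * κ ^ 2 = -1)
    (hρ : (π ρ).1 = s • (1 - E0Z.map (ev h.hg) + κ • JZ.map (ev h.hg))) : False := by
  have h2 := h.fh.two
  let φ : MZ →+* Matrix (Fin 5) (Fin 5) F := (ev h.hg).mapMatrix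
  have φe : ∀ X : MZ, X.map (ev h.hg) = φ X := fun X => rfl
  let e : Fin 5 → Matrix (Fin 5) (Fin 5) F := fun k => ((2 : F) ^ 4)⁻¹ • (φ (EZ k) - κ • φ (JJ k))
  have cm : ∀ {x : C} {m : ℕ} {X : MZ}, Rp h.hg (π x) m X → ∀ i k, X * EZ i = EZ k * X ∧
      X * JJ i = JJ k * X → (π x).1 * e i = e k * (π x).1 := fun {x m X} r i k d => by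
    refine smul_right_injective _ (pow_ne_zero m h2) ?_
    have r' : (2 : F) ^ m • (π x).1 = φ X := r
    show (2 : F) ^ m • ((π x).1 * e i) = (2 : F) ^ m • (e k * (π x).1)
    rw [← smul_mul_assoc, ← mul_smul_comm, r']
    simp only [e, mul_smul_comm, smul_mul_assoc, mul_sub, sub_mul, ← map_mul, d.1, d.2]
  have e0 : e 0 = E0Z.map (ev h.hg) - κ • JZ.map (ev h.hg) := by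
    simp only [e, EJ_s.2.2.1, EJ_s.2.2.2, ← φe, map_two]
    rw [smul_comm κ, ← smul_sub, smul_smul, inv_mul_cancel₀ (pow_ne_zero 4 h2), one_smul]
  refine H4.C11U.beta_mid π ψ h2 h.cen h.σ2 h.πσ h.ψσ h.kerU h.scU h.kerV h.e12 e
    (fun k => cm h.r_g5 _ _ (EJ_g k)) (fun k => cm h.hf _ _ (EJ_f k)) (fun k => cm h.r_z2 _ _ (EJ_z k))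
    (fun i j hij => ?_) ?_ ρ2 (mul_self_eq_one_iff.1 hs) (by rw [hρ, e0, sub_sub_eq_add_sub, add_sub_right_comm])
    (h.tr hY ρ2 fun b hb => ?_)
  · obtain ⟨k1, k2⟩ := EJ_o i j hij
    simp only [e, mul_smul_comm, smul_mul_assoc, mul_sub, sub_mul, ← map_mul, k1, k2, map_add, map_neg]
    generalize φ (EZ i * EZ j) = A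
    generalize φ (JJ i * EZ j) = D
    ext a b
    simp only [Matrix.smul_apply, Matrix.sub_apply, Matrix.add_apply, Matrix.neg_apply, smul_eq_mul,
      Matrix.zero_apply]
    linear_combination ((2 : F) ^ 4)⁻¹ * ((2 : F) ^ 4)⁻¹ * A a b * hκ
  · have k1 := congrArg φ EJ_s.1
    have k2 := congrArg φ EJ_s.2.1
    rw [← φe ((2 : ZG) ^ 5 • 1), map_two, φe, map_one] at k1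
    simp only [map_add, map_zero] at k1 k2
    have : e 0 + e 1 + e 2 + e 3 + e 4 = ((2 : F) ^ 4)⁻¹ •
        ((φ (EZ 0) + φ (EZ 1) + φ (EZ 2) + φ (EZ 3) + φ (EZ 4)) -
          κ • (φ (JJ 0) + φ (JJ 1) + φ (JJ 2) + φ (JJ 3) + φ (JJ 4))) := by
      simp only [e]; module
    rw [this, k1, k2, smul_zero, sub_zero, smul_smul, pow_succ (2 : F) 4,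
      inv_mul_cancel_left₀ (pow_ne_zero 4 h2)]
  · have := congrFun (congrFun (hρ.symm.trans hb) 4) 3
    simp [E0Z, JZ, map_ofNat, h2] at this
    rcases this with rfl | rfl
    · simp at hs
    · simp at hκ

end Cfsg.Agent.L.X11U
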