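import Cfsg.Agent.LU.C0

/-! Computations in the ring of integers of the eleventh cyclotomic field. -/

set_option autoImplicit false
set_option linter.unusedSimpArgs false
set_option linter.unusedVariables false

namespace Cfsg.Agent.H8.C11U

open Matrix

variable {F : Type*} [Field F] {ω : F}

/-- sum of coefficient lists -/
def pa : List ℤ → List ℤ → List ℤ
  | [], b => b
  | x :: a, [] => x :: a
  | x :: a, y :: b => (x + y) :: pa a b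

/-- scalar multiple -/
def ps (c : ℤ) : List ℤ → List ℤ
  | [] => []
  | x :: a => c * x :: ps c a

/-- product -/
def pmul : List ℤ → List ℤ → List ℤ
  | [], _ => []
  | x :: a, b => pa (ps x b) (0 :: pmul a b)

/-- evaluation -/
def pe (ω : F) : List ℤ → F
  | [] => 0
  | x :: a => x + ω * pe ω a

/-- monomial -/
def pw : ℕ → List ℤ
  | 0 => [1]
  | n + 1 => 0 :: pw n

/-- all coefficients vanish -/
def allz : List ℤ → Bool
  | [] => true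
  | x :: a => x == 0 && allz a

/-- one division step -/
def stp : List ℤ → List ℤ
  | [] => []
  | x :: a => pa a (ps (-x) [1, 1, 1, 1, 1, 1, 1, 1, 1, 1])

/-- divisibility by the cyclotomic polynomial -/
def isz : ℕ → List ℤ → Bool
  | 0, a => allz a
  | n + 1, a => isz n (stp a)

theorem pe_pa : ∀ a b : List ℤ, pe ω (pa a b) = pe ω a + pe ω b
  | [], b => by simp [pa, pe]
  | x :: a, [] => by simp [pa, pe]
  | x :: a, y :: b => by simp only [pa, pe, pe_pa a b]; push_cast; ring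

theorem pe_ps (c : ℤ) : ∀ a : List ℤ, pe ω (ps c a) = c * pe ω a
  | [] => by simp [ps, pe]
  | x :: a => by simp only [ps, pe, pe_ps c a]; push_cast; ring

theorem pe_pmul : ∀ a b : List ℤ, pe ω (pmul a b) = pe ω a * pe ω b
  | [], b => by simp [pmul, pe]
  | x :: a, b => by simp only [pmul, pe, pe_pa, pe_ps, pe_pmul a b]; push_cast; ring

theorem pe_pw : ∀ n, pe ω (pw n) = ω ^ n
  | 0 => by simp [pw, pe]
  | n + 1 => by simp [pw, pe, pe_pw n, pow_succ']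

theorem isz0 : ∀ a : List ℤ, allz a = true → pe ω a = 0
  | [], _ => rfl
  | x :: a, e => by
    simp only [allz, Bool.and_eq_true, beq_iff_eq] at e
    simp [pe, e.1, isz0 a e.2]

theorem pe_stp (h : Om11 ω) : ∀ a : List ℤ, pe ω a = ω * pe ω (stp a)
  | [] => by simp [pe, stp]
  | x :: a => by
    simp only [stp, pe_pa, pe_ps, pe]
    push_cast
    linear_combination x * h

theorem isz_pe (h : Om11 ω) : ∀ (n : ℕ) (a : List ℤ), isz n a = true → pe ω a = 0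
  | 0, a, e => isz0 a e
  | n + 1, a, e => by rw [pe_stp h, isz_pe h n _ e, mul_zero]

/-- matrices of coefficient lists -/
abbrev ML := Fin 5 → Fin 5 → List ℤ

def em (ω : F) (A : ML) : M5 F := of fun i j => pe ω (A i j)

def mm (A B : ML) : ML := fun i j => pa (pmul (A i 0) (B 0 j)) (pa (pmul (A i 1) (B 1 j))
  (pa (pmul (A i 2) (B 2 j)) (pa (pmul (A i 3) (B 3 j)) (pmul (A i 4) (B 4 j)))))

def ms (c : List ℤ) (A : ML) : ML := fun i j => pmul c (A i j)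

def m1 : ML := fun i j => if i = j then [1] else []

theorem em_mm (A B : ML) : em ω (mm A B) = em ω A * em ω B := by
  ext i j; simp [em, mm, pe_pa, pe_pmul, mul_apply, Fin.sum_univ_succ]

theorem em_ms (c : List ℤ) (A : ML) : em ω (ms c A) = pe ω c • em ω A := by
  ext i j; simp [em, ms, pe_pmul]

theorem em_one : em ω m1 = 1 := by
  ext i j; simp only [em, m1, of_apply, one_apply]; split_ifs <;> simp [pe]

theorem em_eq (h : Om11 ω) (n : ℕ) {A B : ML}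
    (e : ∀ i j, isz n (pa (A i j) (ps (-1) (B i j))) = true) : em ω A = em ω B := by
  ext i j
  have := isz_pe h n _ (e i j)
  simp only [pe_pa, pe_ps] at this
  simp only [em, of_apply]
  push_cast at this
  linear_combination this

/-- the Gauss sum -/
def Gl : List ℤ := [0, 1, -1, 1, 1, 1, -1, -1, -1, 1, -1]

theorem GG (h : Om11 ω) : pe ω Gl * pe ω Gl = -11 := by
  have := isz_pe h 12 (pa (pmul Gl Gl) [11]) (by decide +kernel)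
  simp only [pe_pa, pe_pmul] at this
  simp only [pe] at this ⊢
  push_cast at this ⊢
  linear_combination this

def Dl : ML := ![![[0, 0, 0, -1, 0, 0, -1, 0, -1, -1, 0], [0, 1, 0, -1, 0, 0, 0, 0, -1, 0, 0], [0, 0, 1, -1, -1, 0, -1, 0, 0, -1, 0], [1, 0, 0, -1, 0, 1, 0, 0, 0, 0, 1], [0, 0, 0, -1, 0, 0, -1, -1, -1, -1, 0]],
    ![[0, -1, 0, 0, 0, 0, -1, -1, 0, -1, 0], [0, 0, -1, 0, 1, 0, 0, 0, -1, 0, 0], [-1, 1, 0, 0, 0, -1, 0, 0, -1, 0, -1], [0, 0, 1, 0, -1, 0, 0, 1, 1, 0, 0], [0, -1, -1, -1, -1, 0, 0, -1, 0, 0, 0]],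
    ![[0, 1, 2, 1, 0, 0, 0, 1, 1, 0, 0], [0, -1, -1, -1, -1, 0, 0, 0, 0, 0, 0], [0, 0, 0, 0, 0, 0, 0, -1, 0, 0, 0], [0, -1, 0, 0, 0, 0, -1, 0, 0, -1, 0], [0, 1, -1, 0, 1, 0, 1, 0, -1, 1, 0]],
    ![[0, 0, 0, 0, 0, 0, 0, 2, 2, 0, 0], [-2, 0, -2, -2, 0, -2, 0, 0, -2, 0, 0], [0, 0, 0, 0, -2, -2, 0, 0, 0, -2, -2], [0, 0, -2, 0, 0, -2, 0, 0, 0, 2, 0], [-2, 0, 0, 0, 0, -2, 0, 0, 0, 0, -2]],
    ![[-2, 0, 0, 0, 2, 0, 0, 2, 0, 0, 0], [0, 2, 0, 0, 0, 0, 2, 2, 0, 0, 0], [0, 0, 0, 0, -2, -2, 0, 0, 0, 0, 0], [2, 0, 0, 2, 0, 0, 2, 0, 2, 2, 0], [0, 0, 0, 2, 2, 0, 0, 0, 2, 2, 0]]]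

def Bl : ML := ![![[8, -10, 2, -10, 6, -12, 2, 0, -4, 0, -4], [0, 2, -12, 6, -10, 2, -10, 8, -4, 0, -4], [-4, 0, -2, 0, 0, -2, 0, -4, 4, 4, 4], [3, 0, -3, 2, 6, -6, 0, -3, 7, -9, 3], [-6, 0, -3, 4, -4, 3, 0, 6, -4, 0, 4]],
    ![[2, -6, 8, -6, 0, -4, 6, -2, -6, 4, 4], [6, -4, 0, -6, 8, -6, 2, 4, 4, -6, -2], [6, 0, 10, -2, 10, 0, 6, -4, 0, 0, -4], [-2, 3, 5, 0, -1, 6, -4, 3, -1, 4, -2], [-2, 3, -6, 0, 6, -3, 2, -5, 5, -5, 5]],
    ![[4, -4, 4, -2, 0, -4, 2, -2, -6, 8, 0], [-6, -2, 2, -4, 0, -2, 4, -4, 4, 0, 8], [-10, 2, -10, 6, -20, 6, -10, 2, -10, 0, 0], [-1, -3, -5, 6, 0, 3, -2, 2, 0, 0, 0], [1, 5, 3, -3, 0, 3, -3, -5, -1, 0, 0]],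
    ![[8, -4, 6, -2, 0, -2, 2, 2, -10, 4, -4], [0, -2, 6, -4, 8, -4, 4, -10, 2, 2, -2], [10, 0, -2, 0, 10, -4, 0, 6, 6, 0, -4], [-4, 7, -1, 4, 2, -2, 0, -3, 3, -9, 3], [6, -3, 0, 3, -6, 5, -9, 6, -6, 9, -5]],
    ![[4, -2, -2, 2, -8, 0, -2, 8, -8, 6, 2], [-2, 4, 2, 6, -8, 8, -2, 0, -8, 2, -2], [-2, -2, 4, -4, 0, 0, 4, 0, 0, -4, 4], [-1, 6, -5, 5, -4, 14, -7, 8, 0, 7, -1], [7, -7, 4, 2, 4, -6, 0, 6, -4, -2, -4]]]

def ul : ML := fun i j => if i = j then pw (![1, 9, 4, 3, 5] i) else []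

def Φl : ML := fun k l => pa (pw ((pl k 0 : ℕ) * pl l 0 % 11)) (ps (-1) (pw ((pl k 0 : ℕ) * pl l 1 % 11)))

theorem em_ul : em ω ul = diagonal fun i => ω ^ ![1, 9, 4, 3, 5] i := by
  ext i j; simp only [em, ul, of_apply, diagonal_apply]; split_ifs <;> simp [pe, pe_pw]

theorem em_Φl : em ω Φl = Φu ω := by
  ext i j; simp [em, Φl, Φu, pe_pa, pe_ps, pe_pw, sub_eq_add_neg]

theorem DB (h : Om11 ω) : em ω Dl * em ω Bl = (88 : F) • 1 := by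
  rw [← em_mm, em_eq h 12 (B := ms [88] m1) (by decide +kernel), em_ms, em_one]; simp [pe]

def u6l : ML := fun i j => if i = j then pw (![6, 10, 2, 7, 8] i) else []

theorem em_u6l (h : ω ^ 11 = 1) : em ω u6l = em ω ul ^ 6 := by
  rw [em_ul, diagonal_pow]
  ext i j; simp only [em, u6l, of_apply, diagonal_apply]; split_ifs with e
  · rw [pe_pw, Pi.pow_apply, ← pow_mul]; exact om_congr h (by clear e; revert i; decide)
  · rfl

def El : ML := ![![[-2, -2, 0, 2, 0, -1, 2, -1, 0, 2], [-2, 0, -3, -4, -2, -2, -4, -3, 0, -2], [-1, -2, 2, -2, -1, 0, 0, 2, 2, 0], [4, 1, 1, 4, 0, 2, 2, 4, 2, 2], [2, 1, 2, 2, 1, 2, 0, 4, 4, 4]],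
    ![[2, 2, 0, 1, 4, 2, 4, 2, 4, 1], [-4, -3, -2, -2, 0, 0, -2, -2, -3, -4], [2, 2, 4, 2, 2, 0, 4, 1, 1, 4], [-1, 0, 0, -1, 0, -2, 2, 2, 2, -2], [2, 0, -2, -2, 0, 2, 0, -1, 2, -1]],
    ![[2, 2, 0, 0, -1, -2, 2, -2, -1, 0], [-2, -2, -4, 0, -3, -3, 0, -4, -2, -2], [-2, 2, 2, 2, -2, 0, -1, 0, 0, -1], [-2, -4, -4, -2, 0, -2, -3, 0, -3, -2], [-3, -4, -2, -2, -4, -3, 0, -2, 0, -2]],
    ![[-3, -3, 0, -4, -2, -2, 0, -2, -2, -4], [0, -4, -2, -3, -2, -2, -3, -2, -4, 0], [-2, -3, 0, -3, -2, 0, -2, -4, -4, -2], [-1, 1, 1, -1, 0, 3, 1, 3, 1, 3], [1, 1, 3, 3, 1, 1, 0, -1, 3, -1]],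
    ![[1, 1, 0, 1, -1, 3, 3, 3, -1, 1], [-3, -2, 0, -2, -4, -4, -2, 0, -2, -3], [3, 1, 3, 1, 3, 0, -1, 1, 1, -1], [0, 2, 2, 0, 0, -1, -2, 2, -2, -1], [-2, 2, -1, -1, 2, -2, 0, 0, 2, 0]]]

def E2l : ML := ![![[0, 22, 44, 22, 11, 44, 11, 22, 44, 22], [0, -22, -11, 22, 0, 22, 0, 22, -11, -22], [0, -22, -22, -33, -44, 0, -44, -33, -22, -22], [0, 33, -11, 11, 11, 33, 11, 11, -11, 33], [0, -11, 0, -22, 22, 22, 22, -22, 0, -11]],
    ![[-22, 0, -22, 0, -33, -44, -22, -22, -44, -33], [-11, 33, -11, 0, 11, 11, 33, 33, 11, 11], [0, 22, 0, 0, -22, 22, -11, -11, 22, -22], [44, 44, 44, 0, 22, 11, 22, 22, 11, 22], [-11, 22, -11, 0, 22, 0, -22, -22, 0, 22]],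
    ![[11, 22, 22, 44, 44, 22, 22, 11, 0, 44], [0, -22, 22, -11, -11, 22, -22, 0, 0, 22], [-44, -22, -33, -22, -22, -33, -22, -44, 0, 0], [11, 33, 11, -11, -11, 11, 33, 11, 0, 33], [22, -11, -22, 0, 0, -22, -11, 22, 0, 22]],
    ![[33, -11, 11, 11, 33, 11, 11, -11, 33, 0], [-11, 0, -22, 22, 22, 22, -22, 0, -11, 0], [22, 44, 22, 11, 44, 11, 22, 44, 22, 0], [-22, -11, 22, 0, 22, 0, 22, -11, -22, 0], [-22, -22, -33, -44, 0, -44, -33, -22, -22, 0]],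
    ![[11, -11, 33, 33, 33, -11, 11, 0, 11, 11], [22, 0, -11, 22, -11, 0, 22, 0, -22, -22], [11, 44, 22, 44, 22, 44, 11, 0, 22, 22], [0, -11, -22, 22, -22, -11, 0, 0, 22, 22], [-44, -22, -22, 0, -22, -22, -44, 0, -33, -33]]]

theorem cube (h : Om11 ω) : ((-pe ω Gl) • Φu ω * em ω ul ^ 6) ^ 3 = (1331 : F) • 1 := by
  have e : (-pe ω Gl) • Φu ω * em ω ul ^ 6 = em ω El := by
    rw [← em_eq h 25 (A := mm (ms (ps (-1) Gl) Φl) u6l) (B := El) (by decide +kernel), em_mm, em_ms, em_Φl,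
      em_u6l (om11 h), pe_ps]; simp
  rw [e, pow_three, ← em_mm, em_eq h 10 (A := mm El El) (B := E2l) (by decide +kernel), ← em_mm,
    em_eq h 10 (B := ms [1331] m1) (by decide +kernel), em_ms, em_one]
  simp [pe]

end Cfsg.Agent.H8.C11U
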