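import Cfsg.Agent.H8.C7.T

/-! The stabiliser of the splitting `W₀ ⊕ W₁ ⊕ ⋯ ⊕ W₅` for `11^{1+2}` (abstract form). -/

set_option autoImplicit false
set_option linter.unusedSimpArgs false
set_option linter.unusedSectionVars false
set_option linter.unusedVariables false

namespace Cfsg.Agent.H5.C11U

open Matrix OnePoint Cfsg.Agent.H5.T3 Cfsg.Agent.H5.C5 Cfsg.Agent.H8 Cfsg.Agent.H7
open Cfsg.Agent.H2.S7 (scal_of_tw)

local notation "pk" => Matrix.ProjGenLinGroup.mk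

variable {F : Type*} [Field F]

/-- the hypotheses on the field -/
structure FH (p : ℕ) (ω : F) : Prop where
  prime : p.Prime
  char : CharP F p
  finF : Finite F
  cd : p ≠ 2 ∧ p ≠ 11
  w : ω ^ 11 = 1
  w1 : ω ≠ 1

namespace FH

variable {p : ℕ} {ω : F} (h : FH p ω)
include h

theorem om0 : ω ≠ 0 := by
  intro e; have := h.w; rw [e] at this; simp at this

theorem om_pow {k : ℕ} (hk : k % 11 ≠ 0) : ω ^ k ≠ 1 := by
  intro e
  have := pow_gcd_eq_one.2 ⟨e, h.w⟩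
  rw [show Nat.gcd k 11 = 1 from Nat.coprime_comm.1 ((Nat.Prime.coprime_iff_not_dvd (by norm_num)).2
    fun d => hk (Nat.mod_eq_zero_of_dvd d)), pow_one] at this
  exact h.w1 this

theorem om_ne {k l : ℕ} (hk : (k + 10 * l) % 11 ≠ 0) : ω ^ k ≠ ω ^ l := fun e => h.om_pow hk (by
  rw [pow_add, e, ← pow_add, show l + 10 * l = 11 * l by ring, pow_mul, h.w, one_pow])

theorem ne {k l : ℕ} (hk : (k + 10 * l) % 11 ≠ 0) : ω ^ k - ω ^ l ≠ 0 := sub_ne_zero.2 (h.om_ne hk)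

theorem ne_zero {n : ℕ} (hn : n.Prime) (hne : p ≠ n) : (n : F) ≠ 0 := fun e =>
  haveI := h.char
  hne ((Nat.prime_dvd_prime_iff_eq h.prime hn).1 ((CharP.cast_eq_zero_iff F p n).1 e))

theorem two : (2 : F) ≠ 0 := by
  exact_mod_cast h.ne_zero (n := 2) Nat.prime_two h.cd.1

theorem eleven : (11 : F) ≠ 0 := by
  exact_mod_cast h.ne_zero (n := 11) (by norm_num) h.cd.2

end FH

end Cfsg.Agent.H5.C11U
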