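import Cfsg.Agent.LU.T

/-! The stabiliser of the planes `⟨e_a, e_{-a}⟩` is monomial (entrywise form). -/

set_option autoImplicit false
set_option linter.unusedSimpArgs false
set_option linter.unusedSectionVars false
set_option linter.unusedVariables false

namespace Cfsg.Agent.H5.C11U

open Matrix Cfsg.Agent.H5.T3 Cfsg.Agent.H5.C5 Cfsg.Agent.H7

variable {F : Type*} [Field F] {M : Subgroup (GL (Fin 11) F)}

/-- conjugation by a signed permutation matrix -/
def Sh (X : Matrix (Fin 11) (Fin 11) F) : Prop := ∀ i j, i ≠ j → i ≠ -j → X i j = 0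

variable {p : ℕ} {ω : F}

theorem FH.sh_of_comm (fh : FH p ω) {w : Fin 11 → ℕ} (hw : ∀ j, w j % 11 = (j : ℕ) ^ 2 % 11)
    {X : Matrix (Fin 11) (Fin 11) F}
    (h : X * diagonal (fun j => ω ^ w j) = diagonal (fun j => ω ^ w j) * X) : Sh X := fun i j a b => by
  have := congrFun (congrFun h i) j
  rw [mul_diagonal, diagonal_mul, mul_comm] at this
  refine by_contra fun e => fh.om_ne (k := w j) (l := w i) ?_ (mul_right_cancel₀ e this)
  have k : ((j : ℕ) ^ 2 + 10 * (i : ℕ) ^ 2) % 11 ≠ 0 := by clear * - a b; revert i j; decide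
  have := hw i
  have := hw j
  omega

end Cfsg.Agent.H5.C11U
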