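import Cfsg.Agent.LU.T

/-! The five-dimensional representation of `L₂(11)` in a basis adapted to a four-group. -/

set_option autoImplicit false
set_option linter.unusedSimpArgs false
set_option linter.unusedSectionVars false
set_option linter.unusedVariables false

namespace Cfsg.Agent.L.X11U

open Matrix Cfsg.Agent.H5.C11U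

abbrev ZG := ℤ√(-11)
abbrev MZ := Matrix (Fin 5) (Fin 5) ZG

def u16 : MZ := !![⟨-6,2⟩, ⟨4,0⟩, ⟨6,2⟩, ⟨0,2⟩, ⟨1,-1⟩; ⟨6,2⟩, ⟨-6,2⟩, ⟨-4,0⟩, ⟨1,1⟩, ⟨0,-2⟩; ⟨-4,0⟩, ⟨6,2⟩, ⟨6,-2⟩, ⟨1,-1⟩, ⟨-1,-1⟩; ⟨-8,0⟩, ⟨-4,4⟩, ⟨-4,-4⟩, ⟨-2,2⟩, ⟨2,2⟩; ⟨-4,4⟩, ⟨4,4⟩, ⟨-8,0⟩, ⟨-2,-2⟩, ⟨0,4⟩]
def U16 : MZ := !![⟨-6,-2⟩, ⟨6,-2⟩, ⟨-4,0⟩, ⟨1,1⟩, ⟨0,-2⟩; ⟨4,0⟩, ⟨-6,-2⟩, ⟨6,-2⟩, ⟨1,-1⟩, ⟨-1,-1⟩; ⟨6,-2⟩, ⟨-4,0⟩, ⟨6,2⟩, ⟨0,2⟩, ⟨1,-1⟩; ⟨-4,-4⟩, ⟨-8,0⟩, ⟨-4,4⟩, ⟨0,-4⟩, ⟨-2,2⟩; ⟨-8,0⟩, ⟨-4,4⟩, ⟨4,4⟩, ⟨2,-2⟩, ⟨-2,-2⟩]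
def fZ : MZ := !![1,0,0,0,0; 0,-1,0,0,0; 0,0,-1,0,0; 0,0,0,1,0; 0,0,0,0,1]
def z2Z : MZ := !![-1,0,0,0,0; 0,1,0,0,0; 0,0,-1,0,0; 0,0,0,1,0; 0,0,0,0,1]
def yZ : MZ := !![0,0,1,0,0; 1,0,0,0,0; 0,1,0,0,0; 0,0,0,0,-1; 0,0,0,1,-1]
def YZ : MZ := !![0,1,0,0,0; 0,0,1,0,0; 1,0,0,0,0; 0,0,0,-1,1; 0,0,0,-1,0]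
def xZ : MZ := !![1,0,0,0,0; 0,1,0,0,0; 0,0,1,0,0; 0,0,0,0,-1; 0,0,0,1,-1]
def XZ : MZ := !![1,0,0,0,0; 0,1,0,0,0; 0,0,1,0,0; 0,0,0,-1,1; 0,0,0,-1,0]
def RZ : MZ := !![1,0,0,0,0; 0,1,0,0,0; 0,0,1,0,0; 0,0,0,-1,0; 0,0,0,0,-1]
def E0Z : MZ := !![0,0,0,0,0; 0,0,0,0,0; 0,0,0,0,0; 0,0,0,1,0; 0,0,0,0,1]
def JZ : MZ := !![0,0,0,0,0; 0,0,0,0,0; 0,0,0,0,0; 0,0,0,1,-2; 0,0,0,2,-1]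
def t8 : MZ := !![⟨-4,0⟩, ⟨0,0⟩, ⟨0,0⟩, ⟨-3,-1⟩, ⟨-3,1⟩; ⟨0,0⟩, ⟨-4,0⟩, ⟨2,-2⟩, ⟨0,0⟩, ⟨0,0⟩; ⟨0,0⟩, ⟨-2,-2⟩, ⟨-4,0⟩, ⟨0,0⟩, ⟨0,0⟩; ⟨8,0⟩, ⟨0,0⟩, ⟨0,0⟩, ⟨2,-2⟩, ⟨-6,2⟩; ⟨8,0⟩, ⟨0,0⟩, ⟨0,0⟩, ⟨-6,-2⟩, ⟨2,2⟩]
def g8 : MZ := !![⟨-4,0⟩, ⟨0,0⟩, ⟨-4,0⟩, ⟨-2,0⟩, ⟨3,1⟩; ⟨0,0⟩, ⟨4,0⟩, ⟨-4,0⟩, ⟨3,1⟩, ⟨-1,-1⟩; ⟨-4,0⟩, ⟨4,0⟩, ⟨0,0⟩, ⟨-1,-1⟩, ⟨-2,0⟩; ⟨-4,0⟩, ⟨2,-2⟩, ⟨6,-2⟩, ⟨3,1⟩, ⟨3,-1⟩; ⟨-6,2⟩, ⟨-4,0⟩, ⟨2,-2⟩, ⟨6,0⟩, ⟨-3,-1⟩]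
def za8 : MZ := !![⟨4,0⟩, ⟨0,0⟩, ⟨4,0⟩, ⟨-2,0⟩, ⟨3,1⟩; ⟨0,0⟩, ⟨4,0⟩, ⟨4,0⟩, ⟨3,1⟩, ⟨-1,-1⟩; ⟨4,0⟩, ⟨4,0⟩, ⟨0,0⟩, ⟨-1,-1⟩, ⟨-2,0⟩; ⟨4,0⟩, ⟨2,-2⟩, ⟨-6,2⟩, ⟨3,1⟩, ⟨3,-1⟩; ⟨6,-2⟩, ⟨-4,0⟩, ⟨-2,2⟩, ⟨6,0⟩, ⟨-3,-1⟩]
def ga8 : MZ := !![⟨4,0⟩, ⟨0,0⟩, ⟨-4,0⟩, ⟨2,0⟩, ⟨-3,-1⟩; ⟨0,0⟩, ⟨-4,0⟩, ⟨4,0⟩, ⟨3,1⟩, ⟨-1,-1⟩; ⟨4,0⟩, ⟨4,0⟩, ⟨0,0⟩, ⟨1,1⟩, ⟨2,0⟩; ⟨-4,0⟩, ⟨-2,2⟩, ⟨-6,2⟩, ⟨3,1⟩, ⟨3,-1⟩; ⟨-6,2⟩, ⟨4,0⟩, ⟨-2,2⟩, ⟨6,0⟩, ⟨-3,-1⟩]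
def T8 : MZ := !![⟨-4,0⟩, ⟨0,0⟩, ⟨0,0⟩, ⟨3,1⟩, ⟨3,-1⟩; ⟨0,0⟩, ⟨-4,0⟩, ⟨-2,2⟩, ⟨0,0⟩, ⟨0,0⟩; ⟨0,0⟩, ⟨2,2⟩, ⟨-4,0⟩, ⟨0,0⟩, ⟨0,0⟩; ⟨-8,0⟩, ⟨0,0⟩, ⟨0,0⟩, ⟨2,-2⟩, ⟨-6,2⟩; ⟨-8,0⟩, ⟨0,0⟩, ⟨0,0⟩, ⟨-6,-2⟩, ⟨2,2⟩]
def G8 : MZ := !![⟨-4,0⟩, ⟨0,0⟩, ⟨-4,0⟩, ⟨2,0⟩, ⟨-3,-1⟩; ⟨0,0⟩, ⟨4,0⟩, ⟨4,0⟩, ⟨3,1⟩, ⟨-1,-1⟩; ⟨-4,0⟩, ⟨-4,0⟩, ⟨0,0⟩, ⟨1,1⟩, ⟨2,0⟩; ⟨4,0⟩, ⟨2,-2⟩, ⟨-6,2⟩, ⟨3,1⟩, ⟨3,-1⟩; ⟨6,-2⟩, ⟨-4,0⟩, ⟨-2,2⟩, ⟨6,0⟩, ⟨-3,-1⟩]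
def Ga8 : MZ := !![⟨4,0⟩, ⟨0,0⟩, ⟨4,0⟩, ⟨2,0⟩, ⟨-3,-1⟩; ⟨0,0⟩, ⟨-4,0⟩, ⟨4,0⟩, ⟨-3,-1⟩, ⟨1,1⟩; ⟨-4,0⟩, ⟨4,0⟩, ⟨0,0⟩, ⟨-1,-1⟩, ⟨-2,0⟩; ⟨-4,0⟩, ⟨2,-2⟩, ⟨6,-2⟩, ⟨3,1⟩, ⟨3,-1⟩; ⟨-6,2⟩, ⟨-4,0⟩, ⟨2,-2⟩, ⟨6,0⟩, ⟨-3,-1⟩]

variable {F : Type*} [Field F] {g : F}

/-- evaluation of `√-11` at `g` -/
def ev (hg : g * g = -11) : ZG →+* F := Zsqrtd.lift ⟨g, by rw [hg]; norm_num⟩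

theorem ev_mk (hg : g * g = -11) (a b : ℤ) : ev hg ⟨a, b⟩ = a + b * g := by simp [ev]

/-- `A = 2⁻ᵏ X` -/
def Rp (hg : g * g = -11) (A : GL (Fin 5) F) (k : ℕ) (X : MZ) : Prop :=
  (2 : F) ^ k • A.1 = X.map (ev hg)

theorem map_two (hg : g * g = -11) (j : ℕ) (Z : MZ) :
    ((2 : ZG) ^ j • Z).map (ev hg) = (2 : F) ^ j • Z.map (ev hg) := by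
  ext a b; simp [map_ofNat]

theorem Rp.step {hg : g * g = -11} (h2 : (2 : F) ≠ 0) {A B : GL (Fin 5) F} {k l m j : ℕ} {X Y Z : MZ}
    (a : Rp hg A k X) (b : Rp hg B l Y) (e : k + l = j + m) (d : X * Y = (2 : ZG) ^ j • Z) :
    Rp hg (A * B) m Z := by
  have := congrArg (·.map (ev hg)) d
  simp only [Matrix.map_mul, map_two] at this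
  rw [← show _ = _ from a, ← show _ = _ from b, smul_mul_smul_comm, ← pow_add, e, pow_add, mul_smul] at this
  exact smul_right_injective _ (pow_ne_zero j h2) this

theorem Rp.mul {hg : g * g = -11} {A B : GL (Fin 5) F} {k l : ℕ} {X Y : MZ}
    (a : Rp hg A k X) (b : Rp hg B l Y) : Rp hg (A * B) (k + l) (X * Y) := by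
  rw [Rp, Matrix.map_mul, ← show _ = _ from a, ← show _ = _ from b, smul_mul_smul_comm, ← pow_add]; rfl

theorem Rp.eq {hg : g * g = -11} (h2 : (2 : F) ≠ 0) {A B : GL (Fin 5) F} {k : ℕ} {X : MZ}
    (a : Rp hg A k X) (b : Rp hg B k X) : A = B :=
  Units.ext (smul_right_injective _ (pow_ne_zero k h2) (a.trans b.symm))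

theorem Rp.one (hg : g * g = -11) : Rp hg 1 0 1 := by simp [Rp]

theorem Rp.congr {hg : g * g = -11} {A : GL (Fin 5) F} {k : ℕ} {X Y : MZ} (a : Rp hg A k X) (e : X = Y) :
    Rp hg A k Y := e ▸ a

theorem Rp.inv {hg : g * g = -11} (h2 : (2 : F) ≠ 0) {A : GL (Fin 5) F} {k l : ℕ} {X Y : MZ}
    (a : Rp hg A k X) (d : X * Y = (2 : ZG) ^ (k + l) • 1) : Rp hg A⁻¹ l Y := by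
  have := congrArg (·.map (ev hg)) d
  simp only [Matrix.map_mul, map_two] at this
  rw [← show _ = _ from a, Matrix.map_one _ (map_zero _) (map_one _), smul_mul_assoc, pow_add, mul_smul] at this
  have := smul_right_injective _ (pow_ne_zero k h2) this
  rw [Rp, ← Matrix.one_mul (Y.map _), ← A.inv_mul, Matrix.mul_assoc, this]; simp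

theorem Rp.zero {hg : g * g = -11} {A : GL (Fin 5) F} {X : MZ} : Rp hg A 0 X ↔ A.1 = X.map (ev hg) := by
  simp [Rp]

/-- the standing hypotheses -/
structure XS {C : Type*} [Group C] (p : ℕ) (ω g : F) (π : C →* GL (Fin 5) F) (ψ : C →* GL (Fin 6) F)
    (σ u f : C) : Prop where
  fh : FH p ω
  fin : Finite C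
  hg : g * g = -11
  cen : ∀ c, c * σ = σ * c
  σ2 : σ * σ = 1
  πσ : π σ = 1
  ψσ : (ψ σ).1 = -1
  kerU : ∀ c, π c = 1 → c = 1 ∨ c = σ
  scU : ∀ c, (π c).1 ≠ -1
  kerV : ∀ c (a : F), (ψ c).1 = a • 1 → ∃ b : F, (π c).1 = b • 1
  det : ∀ c, (π c).1.det * (ψ c).1.det = 1
  hu : Rp hg (π u) 4 u16
  hf : Rp hg (π f) 0 fZ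
  ff : f * f = σ

def z2 {C : Type*} [Group C] (u f : C) : C := u * u * u * u * f * u⁻¹ * u⁻¹ * u⁻¹ * u⁻¹

def yy {C : Type*} [Group C] (u f : C) : C := f * u * u * f * u⁻¹ * u⁻¹ * f * u⁻¹ * f

def tt {C : Type*} [Group C] (u f : C) : C := u * f * u⁻¹ * u⁻¹ * u⁻¹ * u⁻¹ * f * u

def g5 {C : Type*} [Group C] (u f : C) : C := u * u * u * f * u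

def za {C : Type*} [Group C] (u f : C) : C := u⁻¹ * u⁻¹ * f * u * u

def ga {C : Type*} [Group C] (u f : C) : C := u * f * u⁻¹ * u⁻¹ * u⁻¹ * f * u

/-- the centraliser of the quaternion group -/
def InY {C : Type*} [Group C] (u f c : C) : Prop := c * f = f * c ∧ c * z2 u f = z2 u f * c

namespace XS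

variable {C : Type*} [Group C] {p : ℕ} {ω : F} {π : C →* GL (Fin 5) F} {ψ : C →* GL (Fin 6) F}
  {σ u f : C} (h : XS p ω g π ψ σ u f)
include h

theorem hU : Rp h.hg (π u)⁻¹ 4 U16 := h.hu.inv h.fh.two (by decide +kernel)

theorem r_z2 : Rp h.hg (π (z2 u f)) 0 z2Z := by
  have a1 := Rp.step h.fh.two (j := 4) (m := 4) (Z := !![⟨2,-2⟩, ⟨-6,2⟩, ⟨4,0⟩, ⟨-5,-1⟩, ⟨2,0⟩; ⟨-4,0⟩, ⟨2,-2⟩, ⟨2,2⟩, ⟨-9,1⟩, ⟨9,1⟩; ⟨2,2⟩, ⟨4,0⟩, ⟨-6,-2⟩, ⟨-2,0⟩, ⟨5,-1⟩; ⟨-8,0⟩, ⟨-12,-4⟩, ⟨-4,-4⟩, ⟨-6,-2⟩, ⟨-6,2⟩; ⟨-16,0⟩, ⟨-16,0⟩, ⟨-16,0⟩, ⟨0,0⟩, ⟨0,0⟩]) h.hu h.hu rfl (by decide +kernel)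
  have a2 := Rp.step h.fh.two (j := 4) (m := 4) (Z := !![⟨-2,2⟩, ⟨6,-2⟩, ⟨4,0⟩, ⟨3,-1⟩, ⟨2,0⟩; ⟨4,0⟩, ⟨-2,2⟩, ⟨2,2⟩, ⟨3,-3⟩, ⟨-7,1⟩; ⟨2,2⟩, ⟨4,0⟩, ⟨-10,2⟩, ⟨-6,0⟩, ⟨3,1⟩; ⟨4,-4⟩, ⟨12,-4⟩, ⟨-8,0⟩, ⟨6,-2⟩, ⟨-12,0⟩; ⟨4,-4⟩, ⟨-4,-4⟩, ⟨-8,0⟩, ⟨-2,-2⟩, ⟨0,4⟩]) a1 h.hu rfl (by decide +kernel)
  have a3 := Rp.step h.fh.two (j := 5) (m := 3) (Z := !![⟨0,0⟩, ⟨2,2⟩, ⟨-4,0⟩, ⟨0,0⟩, ⟨0,0⟩; ⟨-4,0⟩, ⟨0,0⟩, ⟨0,0⟩, ⟨3,1⟩, ⟨3,-1⟩; ⟨0,0⟩, ⟨-4,0⟩, ⟨-2,2⟩, ⟨0,0⟩, ⟨0,0⟩; ⟨8,0⟩, ⟨0,0⟩, ⟨0,0⟩, ⟨6,2⟩, ⟨-2,-2⟩; ⟨0,0⟩, ⟨0,0⟩, ⟨0,0⟩, ⟨8,0⟩, ⟨-8,0⟩]) a2 h.hu rfl (by decide +kernel)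
  have a4 := Rp.step h.fh.two (j := 0) (m := 3) (Z := !![⟨0,0⟩, ⟨-2,-2⟩, ⟨4,0⟩, ⟨0,0⟩, ⟨0,0⟩; ⟨-4,0⟩, ⟨0,0⟩, ⟨0,0⟩, ⟨3,1⟩, ⟨3,-1⟩; ⟨0,0⟩, ⟨4,0⟩, ⟨2,-2⟩, ⟨0,0⟩, ⟨0,0⟩; ⟨8,0⟩, ⟨0,0⟩, ⟨0,0⟩, ⟨6,2⟩, ⟨-2,-2⟩; ⟨0,0⟩, ⟨0,0⟩, ⟨0,0⟩, ⟨8,0⟩, ⟨-8,0⟩]) a3 h.hf rfl (by decide +kernel)
  have a5 := Rp.step h.fh.two (j := 3) (m := 4) (Z := !![⟨2,-2⟩, ⟨-6,2⟩, ⟨-4,0⟩, ⟨-3,1⟩, ⟨-2,0⟩; ⟨4,0⟩, ⟨-2,2⟩, ⟨2,2⟩, ⟨3,-3⟩, ⟨-7,1⟩; ⟨-2,-2⟩, ⟨-4,0⟩, ⟨10,-2⟩, ⟨6,0⟩, ⟨-3,-1⟩; ⟨4,-4⟩, ⟨12,-4⟩, ⟨-8,0⟩, ⟨6,-2⟩, ⟨-12,0⟩; ⟨4,-4⟩, ⟨-4,-4⟩, ⟨-8,0⟩, ⟨-2,-2⟩, ⟨0,4⟩]) a4 h.hU rfl (by decide +kernel)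
  have a6 := Rp.step h.fh.two (j := 4) (m := 4) (Z := !![⟨-2,2⟩, ⟨6,-2⟩, ⟨-4,0⟩, ⟨5,1⟩, ⟨-2,0⟩; ⟨-4,0⟩, ⟨2,-2⟩, ⟨2,2⟩, ⟨-9,1⟩, ⟨9,1⟩; ⟨-2,-2⟩, ⟨-4,0⟩, ⟨6,2⟩, ⟨2,0⟩, ⟨-5,1⟩; ⟨-8,0⟩, ⟨-12,-4⟩, ⟨-4,-4⟩, ⟨-6,-2⟩, ⟨-6,2⟩; ⟨-16,0⟩, ⟨-16,0⟩, ⟨-16,0⟩, ⟨0,0⟩, ⟨0,0⟩]) a5 h.hU rfl (by decide +kernel)
  have a7 := Rp.step h.fh.two (j := 4) (m := 4) (Z := !![⟨6,-2⟩, ⟨-4,0⟩, ⟨-6,-2⟩, ⟨0,-2⟩, ⟨-1,1⟩; ⟨6,2⟩, ⟨-6,2⟩, ⟨-4,0⟩, ⟨1,1⟩, ⟨0,-2⟩; ⟨4,0⟩, ⟨-6,-2⟩, ⟨-6,2⟩, ⟨-1,1⟩, ⟨1,1⟩; ⟨-8,0⟩, ⟨-4,4⟩, ⟨-4,-4⟩, ⟨-2,2⟩, ⟨2,2⟩; ⟨-4,4⟩, ⟨4,4⟩, ⟨-8,0⟩, ⟨-2,-2⟩, ⟨0,4⟩]) a6 h.hU rfl (by decide +kernel)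
  have a8 := Rp.step h.fh.two (j := 8) (m := 0) (Z := z2Z) a7 h.hU rfl (by decide +kernel)
  simpa only [z2, map_mul, map_inv] using a8

theorem r_yy : Rp h.hg (π (yy u f)) 0 yZ := by
  have a1 := Rp.step h.fh.two (j := 0) (m := 4) (Z := !![⟨-6,2⟩, ⟨4,0⟩, ⟨6,2⟩, ⟨0,2⟩, ⟨1,-1⟩; ⟨-6,-2⟩, ⟨6,-2⟩, ⟨4,0⟩, ⟨-1,-1⟩, ⟨0,2⟩; ⟨4,0⟩, ⟨-6,-2⟩, ⟨-6,2⟩, ⟨-1,1⟩, ⟨1,1⟩; ⟨-8,0⟩, ⟨-4,4⟩, ⟨-4,-4⟩, ⟨-2,2⟩, ⟨2,2⟩; ⟨-4,4⟩, ⟨4,4⟩, ⟨-8,0⟩, ⟨-2,-2⟩, ⟨0,4⟩]) h.hf h.hu rfl (by decide +kernel)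
  have a2 := Rp.step h.fh.two (j := 4) (m := 4) (Z := !![⟨2,-2⟩, ⟨-6,2⟩, ⟨4,0⟩, ⟨-5,-1⟩, ⟨2,0⟩; ⟨4,0⟩, ⟨-2,2⟩, ⟨-2,-2⟩, ⟨9,-1⟩, ⟨-9,-1⟩; ⟨-2,-2⟩, ⟨-4,0⟩, ⟨6,2⟩, ⟨2,0⟩, ⟨-5,1⟩; ⟨-8,0⟩, ⟨-12,-4⟩, ⟨-4,-4⟩, ⟨-6,-2⟩, ⟨-6,2⟩; ⟨-16,0⟩, ⟨-16,0⟩, ⟨-16,0⟩, ⟨0,0⟩, ⟨0,0⟩]) a1 h.hu rfl (by decide +kernel)
  have a3 := Rp.step h.fh.two (j := 0) (m := 4) (Z := !![⟨2,-2⟩, ⟨6,-2⟩, ⟨-4,0⟩, ⟨-5,-1⟩, ⟨2,0⟩; ⟨4,0⟩, ⟨2,-2⟩, ⟨2,2⟩, ⟨9,-1⟩, ⟨-9,-1⟩; ⟨-2,-2⟩, ⟨4,0⟩, ⟨-6,-2⟩, ⟨2,0⟩, ⟨-5,1⟩; ⟨-8,0⟩, ⟨12,4⟩, ⟨4,4⟩, ⟨-6,-2⟩, ⟨-6,2⟩; ⟨-16,0⟩, ⟨16,0⟩, ⟨16,0⟩, ⟨0,0⟩, ⟨0,0⟩]) a2 h.hf rfl (by decide +kernel)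
  have a4 := Rp.step h.fh.two (j := 4) (m := 4) (Z := !![⟨-6,2⟩, ⟨-4,0⟩, ⟨2,-2⟩, ⟨-2,0⟩, ⟨-3,-1⟩; ⟨2,-2⟩, ⟨-2,-2⟩, ⟨-4,0⟩, ⟨-9,-1⟩, ⟨0,2⟩; ⟨-4,0⟩, ⟨-6,-2⟩, ⟨-2,-2⟩, ⟨5,-1⟩, ⟨-3,1⟩; ⟨12,4⟩, ⟨-4,-4⟩, ⟨8,0⟩, ⟨-6,2⟩, ⟨12,0⟩; ⟨16,0⟩, ⟨-16,0⟩, ⟨16,0⟩, ⟨0,0⟩, ⟨0,0⟩]) a3 h.hU rfl (by decide +kernel)
  have a5 := Rp.step h.fh.two (j := 4) (m := 4) (Z := !![⟨4,0⟩, ⟨6,2⟩, ⟨6,-2⟩, ⟨-1,1⟩, ⟨1,1⟩; ⟨-6,2⟩, ⟨-4,0⟩, ⟨-6,-2⟩, ⟨0,2⟩, ⟨1,-1⟩; ⟨-6,-2⟩, ⟨-6,2⟩, ⟨-4,0⟩, ⟨-1,-1⟩, ⟨0,2⟩; ⟨4,-4⟩, ⟨4,4⟩, ⟨-8,0⟩, ⟨2,2⟩, ⟨0,-4⟩; ⟨-4,-4⟩, ⟨8,0⟩, ⟨-4,4⟩, ⟨0,4⟩, ⟨2,-2⟩]) a4 h.hU rfl (by decide +kernel)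
  have a6 := Rp.step h.fh.two (j := 0) (m := 4) (Z := !![⟨4,0⟩, ⟨-6,-2⟩, ⟨-6,2⟩, ⟨-1,1⟩, ⟨1,1⟩; ⟨-6,2⟩, ⟨4,0⟩, ⟨6,2⟩, ⟨0,2⟩, ⟨1,-1⟩; ⟨-6,-2⟩, ⟨6,-2⟩, ⟨4,0⟩, ⟨-1,-1⟩, ⟨0,2⟩; ⟨4,-4⟩, ⟨-4,-4⟩, ⟨8,0⟩, ⟨2,2⟩, ⟨0,-4⟩; ⟨-4,-4⟩, ⟨-8,0⟩, ⟨4,-4⟩, ⟨0,4⟩, ⟨2,-2⟩]) a5 h.hf rfl (by decide +kernel)
  have a7 := Rp.step h.fh.two (j := 8) (m := 0) (Z := !![⟨0,0⟩, ⟨0,0⟩, ⟨-1,0⟩, ⟨0,0⟩, ⟨0,0⟩; ⟨1,0⟩, ⟨0,0⟩, ⟨0,0⟩, ⟨0,0⟩, ⟨0,0⟩; ⟨0,0⟩, ⟨-1,0⟩, ⟨0,0⟩, ⟨0,0⟩, ⟨0,0⟩; ⟨0,0⟩, ⟨0,0⟩, ⟨0,0⟩, ⟨0,0⟩, ⟨-1,0⟩; ⟨0,0⟩, ⟨0,0⟩, ⟨0,0⟩, ⟨1,0⟩, ⟨-1,0⟩]) a6 h.hU rfl (by decide +kernel)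
  have a8 := Rp.step h.fh.two (j := 0) (m := 0) (Z := yZ) a7 h.hf rfl (by decide +kernel)
  simpa only [yy, map_mul, map_inv] using a8

theorem r_tt : Rp h.hg (π (tt u f)) 3 t8 := by
  have a1 := Rp.step h.fh.two (j := 0) (m := 4) (Z := !![⟨-6,2⟩, ⟨-4,0⟩, ⟨-6,-2⟩, ⟨0,2⟩, ⟨1,-1⟩; ⟨6,2⟩, ⟨6,-2⟩, ⟨4,0⟩, ⟨1,1⟩, ⟨0,-2⟩; ⟨-4,0⟩, ⟨-6,-2⟩, ⟨-6,2⟩, ⟨1,-1⟩, ⟨-1,-1⟩; ⟨-8,0⟩, ⟨4,-4⟩, ⟨4,4⟩, ⟨-2,2⟩, ⟨2,2⟩; ⟨-4,4⟩, ⟨-4,-4⟩, ⟨8,0⟩, ⟨-2,-2⟩, ⟨0,4⟩]) h.hu h.hf rfl (by decide +kernel)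
  have a2 := Rp.step h.fh.two (j := 4) (m := 4) (Z := !![⟨4,0⟩, ⟨6,2⟩, ⟨-2,-2⟩, ⟨5,-1⟩, ⟨-3,1⟩; ⟨6,-2⟩, ⟨4,0⟩, ⟨2,-2⟩, ⟨-2,0⟩, ⟨-3,-1⟩; ⟨-2,2⟩, ⟨2,2⟩, ⟨-4,0⟩, ⟨-9,-1⟩, ⟨0,2⟩; ⟨16,0⟩, ⟨-16,0⟩, ⟨-16,0⟩, ⟨0,0⟩, ⟨0,0⟩; ⟨4,-4⟩, ⟨-12,4⟩, ⟨-8,0⟩, ⟨-6,2⟩, ⟨12,0⟩]) a1 h.hU rfl (by decide +kernel)
  have a3 := Rp.step h.fh.two (j := 4) (m := 4) (Z := !![⟨-6,-2⟩, ⟨-2,-2⟩, ⟨4,0⟩, ⟨3,-1⟩, ⟨2,0⟩; ⟨-4,0⟩, ⟨2,-2⟩, ⟨6,-2⟩, ⟨3,1⟩, ⟨-5,-1⟩; ⟨2,2⟩, ⟨4,0⟩, ⟨2,-2⟩, ⟨0,2⟩, ⟨9,-1⟩; ⟨-16,0⟩, ⟨16,0⟩, ⟨-16,0⟩, ⟨0,0⟩, ⟨0,0⟩; ⟨-12,4⟩, ⟨8,0⟩, ⟨-4,4⟩, ⟨12,0⟩, ⟨-6,-2⟩]) a2 h.hU rfl (by decide +kernel)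
  have a4 := Rp.step h.fh.two (j := 4) (m := 4) (Z := !![⟨-4,0⟩, ⟨-10,2⟩, ⟨2,2⟩, ⟨-3,-1⟩, ⟨-3,1⟩; ⟨6,-2⟩, ⟨-4,0⟩, ⟨2,-2⟩, ⟨2,0⟩, ⟨-5,1⟩; ⟨2,-2⟩, ⟨2,2⟩, ⟨4,0⟩, ⟨7,-1⟩, ⟨-4,-2⟩; ⟨4,4⟩, ⟨-8,0⟩, ⟨4,-4⟩, ⟨0,-4⟩, ⟨-2,2⟩; ⟨16,0⟩, ⟨0,0⟩, ⟨0,0⟩, ⟨-12,-4⟩, ⟨4,4⟩]) a3 h.hU rfl (by decide +kernel)
  have a5 := Rp.step h.fh.two (j := 4) (m := 4) (Z := !![⟨2,2⟩, ⟨4,0⟩, ⟨-2,2⟩, ⟨-4,2⟩, ⟨7,1⟩; ⟨-6,-2⟩, ⟨-2,-2⟩, ⟨-4,0⟩, ⟨5,1⟩, ⟨-2,0⟩; ⟨-4,0⟩, ⟨2,-2⟩, ⟨10,2⟩, ⟨-3,-1⟩, ⟨-3,1⟩; ⟨-12,-4⟩, ⟨4,4⟩, ⟨8,0⟩, ⟨-6,2⟩, ⟨12,0⟩; ⟨-16,0⟩, ⟨0,0⟩, ⟨0,0⟩, ⟨-4,4⟩, ⟨12,-4⟩]) a4 h.hU rfl (by decide +kernel)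
  have a6 := Rp.step h.fh.two (j := 0) (m := 4) (Z := !![⟨2,2⟩, ⟨-4,0⟩, ⟨2,-2⟩, ⟨-4,2⟩, ⟨7,1⟩; ⟨-6,-2⟩, ⟨2,2⟩, ⟨4,0⟩, ⟨5,1⟩, ⟨-2,0⟩; ⟨-4,0⟩, ⟨-2,2⟩, ⟨-10,-2⟩, ⟨-3,-1⟩, ⟨-3,1⟩; ⟨-12,-4⟩, ⟨-4,-4⟩, ⟨-8,0⟩, ⟨-6,2⟩, ⟨12,0⟩; ⟨-16,0⟩, ⟨0,0⟩, ⟨0,0⟩, ⟨-4,4⟩, ⟨12,-4⟩]) a5 h.hf rfl (by decide +kernel)
  have a7 := Rp.step h.fh.two (j := 5) (m := 3) (Z := t8) a6 h.hu rfl (by decide +kernel)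
  simpa only [tt, map_mul, map_inv] using a7

theorem r_g5 : Rp h.hg (π (g5 u f)) 3 g8 := by
  have a1 := Rp.step h.fh.two (j := 4) (m := 4) (Z := !![⟨2,-2⟩, ⟨-6,2⟩, ⟨4,0⟩, ⟨-5,-1⟩, ⟨2,0⟩; ⟨-4,0⟩, ⟨2,-2⟩, ⟨2,2⟩, ⟨-9,1⟩, ⟨9,1⟩; ⟨2,2⟩, ⟨4,0⟩, ⟨-6,-2⟩, ⟨-2,0⟩, ⟨5,-1⟩; ⟨-8,0⟩, ⟨-12,-4⟩, ⟨-4,-4⟩, ⟨-6,-2⟩, ⟨-6,2⟩; ⟨-16,0⟩, ⟨-16,0⟩, ⟨-16,0⟩, ⟨0,0⟩, ⟨0,0⟩]) h.hu h.hu rfl (by decide +kernel)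
  have a2 := Rp.step h.fh.two (j := 4) (m := 4) (Z := !![⟨-2,2⟩, ⟨6,-2⟩, ⟨4,0⟩, ⟨3,-1⟩, ⟨2,0⟩; ⟨4,0⟩, ⟨-2,2⟩, ⟨2,2⟩, ⟨3,-3⟩, ⟨-7,1⟩; ⟨2,2⟩, ⟨4,0⟩, ⟨-10,2⟩, ⟨-6,0⟩, ⟨3,1⟩; ⟨4,-4⟩, ⟨12,-4⟩, ⟨-8,0⟩, ⟨6,-2⟩, ⟨-12,0⟩; ⟨4,-4⟩, ⟨-4,-4⟩, ⟨-8,0⟩, ⟨-2,-2⟩, ⟨0,4⟩]) a1 h.hu rfl (by decide +kernel)
  have a3 := Rp.step h.fh.two (j := 0) (m := 4) (Z := !![⟨-2,2⟩, ⟨-6,2⟩, ⟨-4,0⟩, ⟨3,-1⟩, ⟨2,0⟩; ⟨4,0⟩, ⟨2,-2⟩, ⟨-2,-2⟩, ⟨3,-3⟩, ⟨-7,1⟩; ⟨2,2⟩, ⟨-4,0⟩, ⟨10,-2⟩, ⟨-6,0⟩, ⟨3,1⟩; ⟨4,-4⟩, ⟨-12,4⟩, ⟨8,0⟩, ⟨6,-2⟩, ⟨-12,0⟩; ⟨4,-4⟩, ⟨4,4⟩, ⟨8,0⟩, ⟨-2,-2⟩, ⟨0,4⟩]) a2 h.hf rfl (by decide +kernel)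
  have a4 := Rp.step h.fh.two (j := 5) (m := 3) (Z := g8) a3 h.hu rfl (by decide +kernel)
  simpa only [g5, map_mul, map_inv] using a4

theorem r_za : Rp h.hg (π (za u f)) 3 za8 := by
  have a1 := Rp.step h.fh.two (j := 4) (m := 4) (Z := !![⟨2,2⟩, ⟨-4,0⟩, ⟨2,-2⟩, ⟨0,-2⟩, ⟨-9,1⟩; ⟨-6,-2⟩, ⟨2,2⟩, ⟨4,0⟩, ⟨-3,1⟩, ⟨-2,0⟩; ⟨4,0⟩, ⟨2,-2⟩, ⟨-6,2⟩, ⟨3,1⟩, ⟨-5,-1⟩; ⟨-12,4⟩, ⟨-8,0⟩, ⟨-4,4⟩, ⟨-12,0⟩, ⟨6,2⟩; ⟨4,4⟩, ⟨8,0⟩, ⟨12,4⟩, ⟨-12,0⟩, ⟨6,2⟩]) h.hU h.hU rfl (by decide +kernel)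
  have a2 := Rp.step h.fh.two (j := 0) (m := 4) (Z := !![⟨2,2⟩, ⟨4,0⟩, ⟨-2,2⟩, ⟨0,-2⟩, ⟨-9,1⟩; ⟨-6,-2⟩, ⟨-2,-2⟩, ⟨-4,0⟩, ⟨-3,1⟩, ⟨-2,0⟩; ⟨4,0⟩, ⟨-2,2⟩, ⟨6,-2⟩, ⟨3,1⟩, ⟨-5,-1⟩; ⟨-12,4⟩, ⟨8,0⟩, ⟨4,-4⟩, ⟨-12,0⟩, ⟨6,2⟩; ⟨4,4⟩, ⟨-8,0⟩, ⟨-12,-4⟩, ⟨-12,0⟩, ⟨6,2⟩]) a1 h.hf rfl (by decide +kernel)
  have a3 := Rp.step h.fh.two (j := 4) (m := 4) (Z := !![⟨-2,-2⟩, ⟨-4,0⟩, ⟨-2,2⟩, ⟨4,2⟩, ⟨3,-3⟩; ⟨10,-2⟩, ⟨-2,-2⟩, ⟨4,0⟩, ⟨3,-1⟩, ⟨-6,0⟩; ⟨-4,0⟩, ⟨2,-2⟩, ⟨6,-2⟩, ⟨-5,1⟩, ⟨3,-1⟩; ⟨0,0⟩, ⟨0,0⟩, ⟨-16,0⟩, ⟨-4,-4⟩, ⟨-8,0⟩; ⟨-8,0⟩, ⟨4,-4⟩, ⟨-12,4⟩, ⟨-6,-2⟩, ⟨-6,2⟩]) a2 h.hu rfl (by decide +kernel)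
  have a4 := Rp.step h.fh.two (j := 5) (m := 3) (Z := za8) a3 h.hu rfl (by decide +kernel)
  simpa only [za, map_mul, map_inv] using a4

theorem r_ga : Rp h.hg (π (ga u f)) 3 ga8 := by
  have a1 := Rp.step h.fh.two (j := 0) (m := 4) (Z := !![⟨-6,2⟩, ⟨-4,0⟩, ⟨-6,-2⟩, ⟨0,2⟩, ⟨1,-1⟩; ⟨6,2⟩, ⟨6,-2⟩, ⟨4,0⟩, ⟨1,1⟩, ⟨0,-2⟩; ⟨-4,0⟩, ⟨-6,-2⟩, ⟨-6,2⟩, ⟨1,-1⟩, ⟨-1,-1⟩; ⟨-8,0⟩, ⟨4,-4⟩, ⟨4,4⟩, ⟨-2,2⟩, ⟨2,2⟩; ⟨-4,4⟩, ⟨-4,-4⟩, ⟨8,0⟩, ⟨-2,-2⟩, ⟨0,4⟩]) h.hu h.hf rfl (by decide +kernel)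
  have a2 := Rp.step h.fh.two (j := 4) (m := 4) (Z := !![⟨4,0⟩, ⟨6,2⟩, ⟨-2,-2⟩, ⟨5,-1⟩, ⟨-3,1⟩; ⟨6,-2⟩, ⟨4,0⟩, ⟨2,-2⟩, ⟨-2,0⟩, ⟨-3,-1⟩; ⟨-2,2⟩, ⟨2,2⟩, ⟨-4,0⟩, ⟨-9,-1⟩, ⟨0,2⟩; ⟨16,0⟩, ⟨-16,0⟩, ⟨-16,0⟩, ⟨0,0⟩, ⟨0,0⟩; ⟨4,-4⟩, ⟨-12,4⟩, ⟨-8,0⟩, ⟨-6,2⟩, ⟨12,0⟩]) a1 h.hU rfl (by decide +kernel)
  have a3 := Rp.step h.fh.two (j := 4) (m := 4) (Z := !![⟨-6,-2⟩, ⟨-2,-2⟩, ⟨4,0⟩, ⟨3,-1⟩, ⟨2,0⟩; ⟨-4,0⟩, ⟨2,-2⟩, ⟨6,-2⟩, ⟨3,1⟩, ⟨-5,-1⟩; ⟨2,2⟩, ⟨4,0⟩, ⟨2,-2⟩, ⟨0,2⟩, ⟨9,-1⟩; ⟨-16,0⟩, ⟨16,0⟩, ⟨-16,0⟩, ⟨0,0⟩, ⟨0,0⟩; ⟨-12,4⟩, ⟨8,0⟩, ⟨-4,4⟩, ⟨12,0⟩, ⟨-6,-2⟩]) a2 h.hU rfl (by decide +kernel)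
  have a4 := Rp.step h.fh.two (j := 4) (m := 4) (Z := !![⟨-4,0⟩, ⟨-10,2⟩, ⟨2,2⟩, ⟨-3,-1⟩, ⟨-3,1⟩; ⟨6,-2⟩, ⟨-4,0⟩, ⟨2,-2⟩, ⟨2,0⟩, ⟨-5,1⟩; ⟨2,-2⟩, ⟨2,2⟩, ⟨4,0⟩, ⟨7,-1⟩, ⟨-4,-2⟩; ⟨4,4⟩, ⟨-8,0⟩, ⟨4,-4⟩, ⟨0,-4⟩, ⟨-2,2⟩; ⟨16,0⟩, ⟨0,0⟩, ⟨0,0⟩, ⟨-12,-4⟩, ⟨4,4⟩]) a3 h.hU rfl (by decide +kernel)
  have a5 := Rp.step h.fh.two (j := 0) (m := 4) (Z := !![⟨-4,0⟩, ⟨10,-2⟩, ⟨-2,-2⟩, ⟨-3,-1⟩, ⟨-3,1⟩; ⟨6,-2⟩, ⟨4,0⟩, ⟨-2,2⟩, ⟨2,0⟩, ⟨-5,1⟩; ⟨2,-2⟩, ⟨-2,-2⟩, ⟨-4,0⟩, ⟨7,-1⟩, ⟨-4,-2⟩; ⟨4,4⟩, ⟨8,0⟩, ⟨-4,4⟩, ⟨0,-4⟩, ⟨-2,2⟩; ⟨16,0⟩, ⟨0,0⟩, ⟨0,0⟩, ⟨-12,-4⟩, ⟨4,4⟩]) a4 h.hf rfl (by decide +kernel)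
  have a6 := Rp.step h.fh.two (j := 5) (m := 3) (Z := ga8) a5 h.hu rfl (by decide +kernel)
  simpa only [ga, map_mul, map_inv] using a6

theorem r_Y : Rp h.hg (π (yy u f))⁻¹ 0 YZ := h.r_yy.inv h.fh.two (by decide +kernel)
theorem r_T : Rp h.hg (π (tt u f))⁻¹ 3 T8 := h.r_tt.inv h.fh.two (by decide +kernel)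
theorem r_G : Rp h.hg (π (g5 u f))⁻¹ 3 G8 := h.r_g5.inv h.fh.two (by decide +kernel)
theorem r_Ga : Rp h.hg (π (ga u f))⁻¹ 3 Ga8 := h.r_ga.inv h.fh.two (by decide +kernel)

theorem σ1 : σ ≠ 1 := fun e => by
  have := h.ψσ
  rw [e, map_one] at this
  have := congrFun (congrFun this 0) 0
  simp at this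
  exact h.fh.two (by linear_combination this)

theorem cjσ (c : C) : c * σ * c⁻¹ = σ := by rw [h.cen, mul_inv_cancel_right]

theorem ker2 {a b : C} (e : π a = π b) : a = b ∨ a = σ * b := by
  rcases h.kerU (a * b⁻¹) (by rw [map_mul, map_inv, e, mul_inv_cancel]) with k | k
  · exact Or.inl (mul_inv_eq_one.1 k)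
  · exact Or.inr (mul_inv_eq_iff_eq_mul.1 k)

theorem sqσ (a : C) : σ * a * (σ * a) = a * a := by
  rw [mul_assoc, ← mul_assoc a, h.cen, ← mul_assoc, ← mul_assoc, h.σ2, one_mul]

theorem z2z2 : z2 u f * z2 u f = σ := by
  have : z2 u f * z2 u f = (u * u * u * u) * (f * f) * (u * u * u * u)⁻¹ := by
    simp only [z2, _root_.mul_inv_rev, mul_assoc, inv_mul_cancel_left]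
  rw [this, h.ff, h.cjσ]

theorem zaza : za u f * za u f = σ := by
  have : za u f * za u f = (u⁻¹ * u⁻¹) * (f * f) * (u⁻¹ * u⁻¹)⁻¹ := by
    simp only [za, _root_.mul_inv_rev, mul_assoc, mul_inv_cancel_left, inv_inv]
  rw [this, h.ff, h.cjσ]

theorem y_f : π (yy u f * f * (yy u f)⁻¹) = π (z2 u f) := by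
  rw [map_mul, map_mul, map_inv]
  exact Rp.eq h.fh.two (((h.r_yy.mul h.hf).mul h.r_Y).congr (by decide +kernel)) h.r_z2

theorem y_z2 : π (yy u f * z2 u f * (yy u f)⁻¹) = π (f * z2 u f) := by
  rw [map_mul, map_mul, map_inv, map_mul]
  exact Rp.eq h.fh.two (((h.r_yy.mul h.r_z2).mul h.r_Y).congr (by decide +kernel)) (h.hf.mul h.r_z2)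

theorem e12 : f * z2 u f = σ * z2 u f * f := by
  have e : π (f * z2 u f) = π (z2 u f * f) := by
    rw [map_mul, map_mul]
    exact Rp.eq h.fh.two ((h.hf.mul h.r_z2).congr (by decide +kernel)) (h.r_z2.mul h.hf)
  refine ((h.ker2 e).resolve_left fun k => h.σ1 ?_).trans (mul_assoc _ _ _).symm
  have k1 : f * z2 u f * (f * z2 u f) = 1 := by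
    nth_rewrite 2 [k]
    rw [mul_assoc, ← mul_assoc (z2 u f), h.z2z2, ← h.cen, ← mul_assoc, h.ff, h.σ2]
  have k2 : (yy u f * z2 u f * (yy u f)⁻¹) * (yy u f * z2 u f * (yy u f)⁻¹) = σ := by
    rw [conj_mul, h.z2z2, h.cjσ]
  rcases h.ker2 h.y_z2 with e | e <;> rw [e] at k2
  · rw [← k2, k1]
  · rw [← k2, h.sqσ, k1]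

end XS

end Cfsg.Agent.L.X11U
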